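import Groth.Agent.DualTor32.Cochain

/-!
A cochain of the dual torus whose coboundary is bounded differs from a bounded one by a coboundary.
-/

set_option autoImplicit false
set_option backward.isDefEq.respectTransparency false
universe u

open CategoryTheory CategoryTheory.Limits AlgebraicGeometry Opposite TensorProduct
open PrimeSpectrum (comap)
open Groth.Agent.DualTor32

noncomputable section

namespace Groth.Agent.DualH2

variable {A₀ : Type u} [CommRing A₀] {B : Type u} [CommRing B] [Algebra A₀ B]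

theorem spMap_comp {Y Y' Y'' : Type u} [CommRing Y] [Algebra A₀ Y] [CommRing Y'] [Algebra A₀ Y'] [CommRing Y'']
    [Algebra A₀ Y''] (φ : Y →ₐ[A₀] Y') (ψ : Y' →ₐ[A₀] Y'') : spMap ψ ≫ spMap φ = spMap (ψ.comp φ) := by
  apply Over.OverMorphism.ext
  show Spec.map _ ≫ Spec.map _ = Spec.map _
  rw [← Spec.map_comp]
  rfl

theorem dMap_comp {Y Y' Y'' : Type u} [CommRing Y] [Algebra A₀ Y] [CommRing Y'] [Algebra A₀ Y'] [CommRing Y'']
    [Algebra A₀ Y''] (φ : Y →ₐ[A₀] Y') (ψ : Y' →ₐ[A₀] Y'') (x : (D A₀ B).obj.obj (op (sp (K := A₀) Y))) :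
    (D A₀ B).obj.map (spMap ψ).op ((D A₀ B).obj.map (spMap φ).op x) = (D A₀ B).obj.map (spMap (ψ.comp φ)).op x := by
  rw [← spMap_comp, op_comp, Functor.map_comp]
  rfl

variable {Y : Type u} [CommRing Y] [Algebra A₀ Y] {n : ℕ} (s : Spl A₀ B Y n)

theorem fn_zero (P : PrimeSpectrum (Y ⊗[A₀] B)) : fn s (0 : (D A₀ B).obj.obj (op (sp (K := A₀) Y))) P = 0 := by
  have h := fn_add s (0 : (D A₀ B).obj.obj (op (sp (K := A₀) Y))) 0 P
  rw [add_zero] at h
  omega

theorem fn_sub (φ ψ : (D A₀ B).obj.obj (op (sp (K := A₀) Y))) (P : PrimeSpectrum (Y ⊗[A₀] B)) :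
    fn s (φ - ψ) P = fn s φ P - fn s ψ P := by
  have h := fn_add s (φ - ψ) ψ P
  rw [sub_add_cancel] at h
  omega

theorem fn_map {Y' : Type u} [CommRing Y'] [Algebra A₀ Y'] {n' : ℕ} (s' : Spl A₀ B Y' n') (ψ : Y →ₐ[A₀] Y')
    (φ : (D A₀ B).obj.obj (op (sp (K := A₀) Y))) (P : PrimeSpectrum (Y' ⊗[A₀] B)) :
    fn s' ((D A₀ B).obj.map (spMap ψ).op φ) P = fn s φ (comap (bcB ψ) P) := by
  rw [fn_congr s' (s.map ψ)]
  exact fn_res s ψ φ P

variable {A C : Type u} [CommRing A] [CommRing C] [Algebra A₀ A] [Algebra A C] [Algebra A₀ C] [IsScalarTower A₀ A C]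

/-- The differential of a one-cochain. -/
def d₁ (d : (D A₀ B).obj.obj (op (sp (K := A₀) (C ⊗[A] C)))) :
    (D A₀ B).obj.obj (op (sp (K := A₀) ((C ⊗[A] C) ⊗[A] C))) :=
  (D A₀ B).obj.map (spMap (q23 A₀ A C)).op d - (D A₀ B).obj.map (spMap (q13 A₀ A C)).op d +
    (D A₀ B).obj.map (spMap (q12 A₀ A C)).op d

/-- The differential of a zero-cochain. -/
def d₀ (g : (D A₀ B).obj.obj (op (sp (K := A₀) C))) : (D A₀ B).obj.obj (op (sp (K := A₀) (C ⊗[A] C))) :=
  (D A₀ B).obj.map (spMap (inr₂ A₀ A C)).op g - (D A₀ B).obj.map (spMap (inl₂ A₀ A C)).op g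

theorem d₁_sub (d d' : (D A₀ B).obj.obj (op (sp (K := A₀) (C ⊗[A] C)))) : d₁ (d - d') = d₁ d - d₁ d' := by
  simp only [d₁, map_sub]
  abel

theorem d₁_d₀ (g : (D A₀ B).obj.obj (op (sp (K := A₀) C))) : d₁ (d₀ (A := A) g) = 0 := by
  simp only [d₁, d₀, map_sub, dMap_comp, q23_inr, q23_inl, q13_inr, q13_inl]
  abel

variable [Module.Finite A C] [Module.Free A C]

theorem exists_bounded_cochain (s : Spl A₀ B C n) (d : (D A₀ B).obj.obj (op (sp (K := A₀) (C ⊗[A] C)))) (M : ℤ)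
    (hM : ∀ t, |fn ((s.map (inl₂ A₀ A C)).map (q12 A₀ A C)) (d₁ d) t| ≤ M) :
    ∃ d', d₁ d' = d₁ d ∧ ∀ R, |fn (s.map (inl₂ A₀ A C)) d' R| ≤ M := by
  classical
  let sP := s.map (inl₂ A₀ A C)
  let N := fn sP d
  let sQ := sP.map (q12 A₀ A C)
  have hN : ∀ t, |N (comap (bcB (q23 A₀ A C)) t) - N (comap (bcB (q13 A₀ A C)) t) +
      N (comap (bcB (q12 A₀ A C)) t)| ≤ M := fun t => by
    have h := hM t
    rw [d₁, fn_add, fn_sub, fn_map sP, fn_map sP, fn_map sP] at h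
    exact h
  let bb := comap (bcB (inr₂ A₀ A C) : C ⊗[A₀] B →+* _)
  have hNlc : IsLocallyConstant N := isLocallyConstant_fn sP d
  have hfin : ∀ x, (N '' (bb ⁻¹' {x})).Finite := fun x => hNlc.range_finite.subset (Set.image_subset_range _ _)
  have hne : ∀ x, (hfin x).toFinset.Nonempty := fun x => by
    obtain ⟨R, hR⟩ := comap_inr_surjective (A₀ := A₀) (A := A) (C := C) (B := B) x
    exact ⟨N R, (hfin x).mem_toFinset.2 ⟨R, hR, rfl⟩⟩
  let m : PrimeSpectrum (C ⊗[A₀] B) → ℤ := fun x => (hfin x).toFinset.max' (hne x)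
  have hle : ∀ R, N R ≤ m (bb R) := fun R => Finset.le_max' _ _ ((hfin _).mem_toFinset.2 ⟨R, rfl, rfl⟩)
  have hex : ∀ x, ∃ R, bb R = x ∧ N R = m x := fun x => (hfin x).mem_toFinset.1 (Finset.max'_mem _ (hne x))
  have hδ : ∀ R, |N R - (m (bb R) - m (comap (bcB (inl₂ A₀ A C)) R))| ≤ M := by
    intro R
    rw [abs_le]
    constructor
    · obtain ⟨R₂, h₂, hm₂⟩ := hex (bb R)
      obtain ⟨t, t₁, t₂⟩ := exists_glue₂ R₂ R h₂
      have h := hle (comap (bcB (q12 A₀ A C)) t)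
      have h' := abs_le.1 (hN t)
      rw [t₁, t₂, hm₂] at h'
      have : bb (comap (bcB (q12 A₀ A C)) t) = comap (bcB (inl₂ A₀ A C)) R := by
        rw [← t₂]
        show comap _ (comap _ _) = comap _ (comap _ _)
        rw [bcB_comp, bcB_comp]
        congr 2
      rw [this] at h
      omega
    · obtain ⟨R₁, h₁, hm₁⟩ := hex (comap (bcB (inl₂ A₀ A C)) R)
      obtain ⟨t, t₁, t₂⟩ := exists_glue₁ R₁ R h₁
      have h := hle (comap (bcB (q13 A₀ A C)) t)
      have h' := abs_le.1 (hN t)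
      rw [t₁, t₂, hm₁] at h'
      have : bb (comap (bcB (q13 A₀ A C)) t) = bb R := by
        rw [← t₂]
        show comap _ (comap _ _) = comap _ (comap _ _)
        rw [bcB_comp, bcB_comp]
        congr 1
      rw [this] at h
      omega
  obtain ⟨hopen, hclosed⟩ := comap_inr_isOpen_isClosed (A₀ := A₀) (A := A) (C := C) (B := B)
  have hclop : ∀ r, IsClopen {x | r ≤ m x} := fun r => by
    have : {x | r ≤ m x} = bb '' (N ⁻¹' Set.Ici r) := by
      ext x
      refine ⟨fun h => ?_, ?_⟩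
      · obtain ⟨R, hR, hm⟩ := hex x
        exact ⟨R, show r ≤ N R from hm ▸ h, hR⟩
      · rintro ⟨R, hR, rfl⟩
        exact le_trans hR (hle R)
    rw [this]
    exact ⟨hclosed _ ⟨by rw [← Set.preimage_compl]; exact hNlc _⟩, hopen _ (hNlc _)⟩
  have hmlc : IsLocallyConstant m := IsLocallyConstant.iff_isOpen_fiber.2 fun r => by
    have : m ⁻¹' {r} = {x | r ≤ m x} \ {x | r + 1 ≤ m x} := by
      ext x
      simp
      omega
    rw [this]
    exact (hclop r).2.sdiff (hclop (r + 1)).1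
  obtain ⟨g, hg⟩ := exists_fn s hmlc
  refine ⟨d - d₀ g, by rw [d₁_sub, d₁_d₀, sub_zero], fun R => ?_⟩
  rw [fn_sub, d₀, fn_sub, fn_map s, fn_map s, hg]
  exact hδ R

end Groth.Agent.DualH2
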