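import Groth.Agent.DualH2.Sec

/-!
A section with lifts on every factor and on one finite free cover lifts globally.
-/

set_option autoImplicit false
set_option backward.isDefEq.respectTransparency false
universe u

open CategoryTheory CategoryTheory.Limits AlgebraicGeometry Opposite TensorProduct
open Groth.Agent.DualTor32 (spO topO spOMap D sp spMap Spl pr₁ pr₂ pair_lift fn q12 q13 q23 inl₂ inr₂)
open Groth.Agent.Tors32

noncomputable section

namespace Groth.Agent.DualH2

variable {A₀ A : Type u} [CommRing A₀] [CommRing A] [Algebra A₀ A] {B : Type u} [CommRing B] [Algebra A₀ B]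
variable {V : Type u} {O : V → Type u} [∀ v, CommRing (O v)] [∀ v, Algebra A (O v)] [∀ v, Algebra A₀ (O v)]
  [∀ v, IsScalarTower A₀ A (O v)]

/-- The differential of a section on the pairs. -/
def δ₁ (F : BigSite.Ab Scheme.fppfPrecoverage (Spec (CommRingCat.of A))) {C : Type u} [CommRing C] [Algebra A C]
    (x : F.obj.obj (op (spO (A := A) (C ⊗[A] C)))) : F.obj.obj (op (spO (A := A) ((C ⊗[A] C) ⊗[A] C))) :=
  F.obj.map (spOMap _ (f₂₃ A C)).op x - F.obj.map (spOMap _ (f₁₃ A C)).op x + F.obj.map (spOMap _ (f₁₂ A C)).op x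

theorem δ₁_app {F F' : BigSite.Ab Scheme.fppfPrecoverage (Spec (CommRingCat.of A))} (φ : F ⟶ F') {C : Type u}
    [CommRing C] [Algebra A C] (x : F.obj.obj (op (spO (A := A) (C ⊗[A] C)))) :
    φ.hom.app (op (spO (A := A) ((C ⊗[A] C) ⊗[A] C))) (δ₁ F x) =
      δ₁ F' (φ.hom.app (op (spO (A := A) (C ⊗[A] C))) x) := by
  simp only [δ₁, map_add, map_sub, app_map]

theorem δ₁_sub (F : BigSite.Ab Scheme.fppfPrecoverage (Spec (CommRingCat.of A))) {C : Type u} [CommRing C] [Algebra A C]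
    (x y : F.obj.obj (op (spO (A := A) (C ⊗[A] C)))) : δ₁ F (x - y) = δ₁ F x - δ₁ F y := by
  simp only [δ₁, map_sub]
  abel

theorem δ₁_δ₀ (F : BigSite.Ab Scheme.fppfPrecoverage (Spec (CommRingCat.of A))) {C : Type u} [CommRing C] [Algebra A C]
    (m : F.obj.obj (op (spO (A := A) C))) : δ₁ F (F.obj.map (pr₂ A C).op m - F.obj.map (pr₁ A C).op m) = 0 := by
  simp only [δ₁, map_sub, map_spOMap_comp]
  have e1 : (f₁₃ A C).comp ((Algebra.TensorProduct.includeLeft : C →ₐ[A] C ⊗[A] C).restrictScalars A) =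
      (f₁₂ A C).comp ((Algebra.TensorProduct.includeLeft : C →ₐ[A] C ⊗[A] C).restrictScalars A) :=
    AlgHom.ext fun _ => rfl
  have e2 : (f₂₃ A C).comp ((Algebra.TensorProduct.includeLeft : C →ₐ[A] C ⊗[A] C).restrictScalars A) =
      (f₁₂ A C).comp ((Algebra.TensorProduct.includeRight : C →ₐ[A] C ⊗[A] C).restrictScalars A) :=
    AlgHom.ext fun _ => rfl
  have e3 : (f₁₃ A C).comp ((Algebra.TensorProduct.includeRight : C →ₐ[A] C ⊗[A] C).restrictScalars A) =
      (f₂₃ A C).comp ((Algebra.TensorProduct.includeRight : C →ₐ[A] C ⊗[A] C).restrictScalars A) :=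
    AlgHom.ext fun _ => rfl
  rw [e1, e2, e3]
  abel

/-- The universal cocycle identity gives the cocycle identity. -/
theorem cocycle_of_δ₁ (F : BigSite.Ab Scheme.fppfPrecoverage (Spec (CommRingCat.of A))) {C : Type u} [CommRing C]
    [Algebra A C] (x : F.obj.obj (op (spO (A := A) (C ⊗[A] C)))) (hx : δ₁ F x = 0)
    (Z : Over (Spec (CommRingCat.of A))) (q₁₂ q₂₃ q₁₃ : Z ⟶ spO (A := A) (C ⊗[A] C))
    (e₁ : q₁₂ ≫ pr₁ A C = q₁₃ ≫ pr₁ A C) (e₂ : q₁₂ ≫ pr₂ A C = q₂₃ ≫ pr₁ A C)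
    (e₃ : q₁₃ ≫ pr₂ A C = q₂₃ ≫ pr₂ A C) :
    F.obj.map q₁₃.op x = F.obj.map q₁₂.op x + F.obj.map q₂₃.op x := by
  have hw : q₁₂ ≫ spStr A (C ⊗[A] C) = (q₂₃ ≫ pr₂ A C) ≫ spStr A C := by
    apply Over.OverMorphism.ext
    exact (Over.w q₁₂).trans (Over.w (q₂₃ ≫ pr₂ A C)).symm
  obtain ⟨h, h₁, h₂⟩ := exists_pairPt A (C ⊗[A] C) C Z q₁₂ (q₂₃ ≫ pr₂ A C) hw
  have p₁₂ : h ≫ spOMap _ (f₁₂ A C) = q₁₂ := h₁
  have p₂₃ : h ≫ spOMap _ (f₂₃ A C) = q₂₃ := by
    apply pair_unique A C
    · rw [← e₂, ← p₁₂, Category.assoc, Category.assoc, spOMap_comp, spOMap_comp]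
      exact congrArg (fun φ => h ≫ spOMap C φ) (AlgHom.ext fun z => rfl)
    · rw [← h₂, Category.assoc, spOMap_comp]
      exact congrArg (fun φ => h ≫ spOMap C φ) (AlgHom.ext fun z => rfl)
  have p₁₃ : h ≫ spOMap _ (f₁₃ A C) = q₁₃ := by
    apply pair_unique A C
    · rw [← e₁, ← p₁₂, Category.assoc, Category.assoc, spOMap_comp, spOMap_comp]
      exact congrArg (fun φ => h ≫ spOMap C φ) (AlgHom.ext fun z => rfl)
    · rw [e₃, ← h₂, Category.assoc, spOMap_comp]
      exact congrArg (fun φ => h ≫ spOMap C φ) (AlgHom.ext fun z => rfl)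
  rw [← p₁₂, ← p₂₃, ← p₁₃, ← map_map_apply, ← map_map_apply, ← map_map_apply, ← map_add]
  congr 1
  rw [δ₁, sub_add_eq_add_sub, sub_eq_zero] at hx
  rw [← hx, add_comm]

variable (L : V → Type u) [∀ v, CommRing (L v)] [∀ v, Algebra (O v) (L v)] [∀ v, Algebra A (L v)]
  [∀ v, IsScalarTower A (O v) (L v)] [∀ v, Algebra A₀ (L v)] [∀ v, IsScalarTower A₀ (O v) (L v)]
  [∀ v, IsScalarTower A₀ A (L v)]

variable {r n : ℕ} (b : ∀ v, Module.Basis (Fin r) (O v) (L v)) (s : Spl A₀ B (∀ v, L v) n)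

include b s in
/-- A cocycle with a coboundary on every factor is a coboundary. -/
theorem exists_primitive (hπ : Function.Bijective (RingHom.pi fun v => algebraMap A (O v)))
    (c : (FD A₀ A B).obj.obj (op (spO (A := A) (((∀ w, L w) ⊗[A] (∀ w, L w)) ⊗[A] (∀ w, L w)))))
    (dv : ∀ v, (FD A₀ A B).obj.obj (op (spO (A := A) (L v ⊗[O v] L v))))
    (hc : ∀ v, (FD A₀ A B).obj.map (spOMap _ (tripleHom (A := A) (O := O) L v)).op c =
      (FD A₀ A B).obj.map (spOMap _ ((f₂₃ (O v) (L v)).restrictScalars A)).op (dv v) -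
        (FD A₀ A B).obj.map (spOMap _ ((f₁₃ (O v) (L v)).restrictScalars A)).op (dv v) +
        (FD A₀ A B).obj.map (spOMap _ ((f₁₂ (O v) (L v)).restrictScalars A)).op (dv v)) :
    ∃ d, δ₁ (FD A₀ A B) d = c := by
  classical
  have : ∀ v, Module.Free (O v) (L v) := fun v => Module.Free.of_basis (b v)
  have : ∀ v, Module.Finite (O v) (L v) := fun v => Module.Finite.of_basis (b v)
  let C := ∀ w, L w
  let sP := s.map (inl₂ A₀ A C)
  let sT := sP.map (q12 A₀ A C)
  let c₀ := secD c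
  let rng := (DualTor32.isLocallyConstant_fn sT c₀).range_finite.toFinset
  let M : ℤ := ∑ x ∈ rng, |x|
  have hM : ∀ R, |fn sT c₀ R| ≤ M := fun R =>
    Finset.single_le_sum (f := fun x => |x|) (fun x _ => abs_nonneg x)
      ((Set.Finite.mem_toFinset _).2 ⟨R, rfl⟩)
  let κ₂ : ∀ v, C ⊗[A] C →ₐ[A₀] L v ⊗[O v] L v := fun v => (pairHom (A := A) (O := O) L v).restrictScalars A₀
  let κ₃ : ∀ v, (C ⊗[A] C) ⊗[A] C →ₐ[A₀] (L v ⊗[O v] L v) ⊗[O v] L v := fun v =>
    (tripleHom (A := A) (O := O) L v).restrictScalars A₀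
  let sv : ∀ v, Spl A₀ B (L v) n := fun v => s.map ((Pi.evalAlgHom A L v).restrictScalars A₀)
  have hdd : ∀ v, d₁ (secD (dv v)) = (D A₀ B).obj.map (spMap (κ₃ v)).op c₀ := fun v => by
    refine Eq.trans ?_ ((congrArg secD (hc v)).symm.trans (secD_map _ c))
    rw [map_add, map_sub, secD_map, secD_map, secD_map]
    rfl
  have hb : ∀ v t, |fn (((sv v).map (inl₂ A₀ (O v) (L v))).map (q12 A₀ (O v) (L v))) (d₁ (secD (dv v))) t| ≤ M :=
    fun v t => by
      rw [hdd, fn_map sT]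
      exact hM _
  choose d' hd' hd'b using fun v => exists_bounded_cochain (A := O v) (sv v) (secD (dv v)) M (hb v)
  obtain ⟨e, he⟩ := exists_glueBdd sP κ₂ (pairHom_bijective L b hπ) M d' fun v P => by
    rw [DualTor32.fn_congr _ ((sv v).map (inl₂ A₀ (O v) (L v)))]
    exact hd'b v P
  obtain ⟨d, hd⟩ := (secD_bijective (A₀ := A₀) (A := A) (B := B) (Y := C ⊗[A] C)).2 e
  refine ⟨d, secD_bijective.1 (sec_sep sT κ₃ (tripleHom_bijective L b hπ).1 fun v => ?_)⟩
  rw [δ₁, map_add, map_sub, secD_map, secD_map, secD_map, hd, map_add, map_sub]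
  show _ = (D A₀ B).obj.map (spMap (κ₃ v)).op c₀
  rw [← hdd, ← hd' v, d₁, ← he v, dMap_comp, dMap_comp, dMap_comp, dMap_comp, dMap_comp, dMap_comp]
  have k₁₂ : (κ₃ v).comp ((f₁₂ A C).restrictScalars A₀) = (q12 A₀ (O v) (L v)).comp (κ₂ v) :=
    AlgHom.ext fun z => DFunLike.congr_fun (tripleHom_f₁₂ (A := A) (O := O) L v) z
  have k₂₃ : (κ₃ v).comp ((f₂₃ A C).restrictScalars A₀) = (q23 A₀ (O v) (L v)).comp (κ₂ v) :=
    AlgHom.ext fun z => DFunLike.congr_fun (tripleHom_f₂₃ (A := A) (O := O) L v) z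
  have k₁₃ : (κ₃ v).comp ((f₁₃ A C).restrictScalars A₀) = (q13 A₀ (O v) (L v)).comp (κ₂ v) :=
    AlgHom.ext fun z => DFunLike.congr_fun (tripleHom_f₁₃ (A := A) (O := O) L v) z
  rw [k₁₂, k₂₃, k₁₃]

variable [∀ v, HenselianLocalRing (O v)] [Nonempty V] [∀ v, Nontrivial (L v)]
variable {I Qs I' Qs' : BigSite.Ab Scheme.fppfPrecoverage (Spec (CommRingCat.of A))} [Injective I]
  {inc : FD A₀ A B ⟶ I} {prj : I ⟶ Qs} {w : inc ≫ prj = 0} {inc' : Qs ⟶ I'} {prj' : I' ⟶ Qs'}
  {w' : inc' ≫ prj' = 0}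

include b s in
/-- The lift. -/
theorem exists_lift_core (hS : (ShortComplex.mk inc prj w).ShortExact)
    (hS' : (ShortComplex.mk inc' prj' w').ShortExact)
    {T : Type u} [CommRing T] [Algebra A₀ T] [Module.FaithfullyFlat A₀ T] [Module.Finite A₀ T]
    {n₀ : ℕ} (s₀ : Spl A₀ B T n₀) (hπ : Function.Bijective (RingHom.pi fun v => algebraMap A (O v)))
    (q : Qs'.obj.obj (op (topO A))) (t : ∀ v, I'.obj.obj (op (spO (A := A) (O v))))
    (ht : ∀ v, prj'.hom.app (op (spO (A := A) (O v))) (t v) = resTop Qs' _ q)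
    (τ : I'.obj.obj (op (spO (A := A) (∀ w, L w))))
    (hτ : prj'.hom.app (op (spO (A := A) (∀ w, L w))) τ = resTop Qs' _ q) :
    ∃ t₀, prj'.hom.app (op (topO A)) t₀ = q := by
  have : Nontrivial (∀ v, L v) := Pi.nontrivial_at (Classical.arbitrary V)
  obtain ⟨e, -⟩ := exists_pi_basis hπ b
  let C := ∀ w, L w
  have : Module.Free A C := Module.Free.of_basis e
  have : Module.Finite A C := Module.Finite.of_basis e
  have : ∀ v, Module.Free (O v) (L v) := fun v => Module.Free.of_basis (b v)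
  have : ∀ v, Module.Finite (O v) (L v) := fun v => Module.Finite.of_basis (b v)
  have : IsIso (Spec.map (CommRingCat.ofHom (algebraMap A A))) := by
    rw [show CommRingCat.ofHom (algebraMap A A) = 𝟙 _ from rfl, Spec.map_id]
    infer_instance
  have hinj : ∀ Z, Function.Injective (inc.hom.app (op Z)) := fun Z => app_f_injective hS Z
  have hinj' : ∀ Z, Function.Injective (inc'.hom.app (op Z)) := fun Z => app_f_injective hS' Z
  have hzero : ∀ {Z} (m : Qs.obj.obj (op Z)), prj'.hom.app (op Z) (inc'.hom.app (op Z) m) = 0 := fun m =>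
    app_g_f (S := ShortComplex.mk inc' prj' w') m
  have hzero' : ∀ {Z} (m : (FD A₀ A B).obj.obj (op Z)), prj.hom.app (op Z) (inc.hom.app (op Z) m) = 0 := fun m =>
    app_g_f (S := ShortComplex.mk inc prj w) m
  -- the local primitives
  let χ : ∀ v, C →ₐ[A] L v := fun v => Pi.evalAlgHom A L v
  have hm : ∀ v, ∃ m, inc'.hom.app (op (spO (A := A) (L v))) m =
      I'.obj.map (spOMap C (χ v)).op τ - I'.obj.map (spStr (O v) (L v)).op (t v) := fun v =>
    exists_app_f_eq hS' (by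
      show prj'.hom.app _ _ = 0
      rw [map_sub, app_map, app_map, hτ, ht, map_resTop, map_resTop, sub_self])
  choose m hm using hm
  choose iv hiv using fun v => exists_lift_finite s₀ hS (L v) (O := fun _ : PUnit.{u + 1} => O v)
    (Yv := fun _ => L v) (fun _ => RingHom.id (L v))
    ⟨fun _ _ h => congrFun h PUnit.unit, fun z => ⟨z PUnit.unit, rfl⟩⟩ (m v)
  -- the global cochain
  obtain ⟨d, hd⟩ := exists_app_f_eq hS'
    (a := I'.obj.map (pr₂ A C).op τ - I'.obj.map (pr₁ A C).op τ) (by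
      show prj'.hom.app _ _ = 0
      rw [map_sub, app_map, app_map, hτ, map_resTop, map_resTop, sub_self])
  obtain ⟨i, hi⟩ := exists_lift_finite s₀ hS (C ⊗[A] C) (O := O) (fun v => (pairHom (A := A) (O := O) L v).toRingHom)
    (pairHom_bijective L b hπ) d
  have hd0 : δ₁ Qs d = 0 := hinj' _ (by
    rw [δ₁_app, map_zero]
    erw [hd]
    exact δ₁_δ₀ I' τ)
  obtain ⟨c, hc⟩ := exists_app_f_eq hS (a := δ₁ I i) (by
    show prj.hom.app _ _ = 0
    rw [δ₁_app, hi, hd0])
  have hdv : ∀ v, ∃ x, inc.hom.app (op (spO (A := A) (L v ⊗[O v] L v))) x =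
      I.obj.map (spOMap (C ⊗[A] C) (pairHom (A := A) (O := O) L v)).op i -
        (I.obj.map (pr₂ (O v) (L v)).op (iv v) - I.obj.map (pr₁ (O v) (L v)).op (iv v)) := fun v =>
    exists_app_f_eq hS (by
      show prj.hom.app _ _ = 0
      rw [map_sub, map_sub, app_map, app_map, app_map, hi, hiv, sub_eq_zero]
      apply hinj'
      rw [map_sub, app_map, app_map, app_map]
      erw [hd]
      rw [hm, map_sub, map_sub, map_sub, map_map_apply, map_map_apply, map_map_apply, map_map_apply, map_map_apply,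
        map_map_apply, spOMap_comp, spOMap_comp, spOMap_comp, spOMap_comp, spStr, spOMap_comp, spOMap_comp]
      have el : (pairHom (A := A) (O := O) L v).comp
          ((Algebra.TensorProduct.includeLeft : C →ₐ[A] C ⊗[A] C).restrictScalars A) =
        ((Algebra.TensorProduct.includeLeft : L v →ₐ[O v] L v ⊗[O v] L v).restrictScalars A).comp (χ v) :=
        AlgHom.ext fun z => pairHom_tmul (O := O) L v z 1
      have er : (pairHom (A := A) (O := O) L v).comp
          ((Algebra.TensorProduct.includeRight : C →ₐ[A] C ⊗[A] C).restrictScalars A) =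
        ((Algebra.TensorProduct.includeRight : L v →ₐ[O v] L v ⊗[O v] L v).restrictScalars A).comp (χ v) :=
        AlgHom.ext fun z => pairHom_tmul (O := O) L v 1 z
      have eo : ((Algebra.TensorProduct.includeRight : L v →ₐ[O v] L v ⊗[O v] L v).restrictScalars A).comp
          (IsScalarTower.toAlgHom A (O v) (L v)) =
        ((Algebra.TensorProduct.includeLeft : L v →ₐ[O v] L v ⊗[O v] L v).restrictScalars A).comp
          (IsScalarTower.toAlgHom A (O v) (L v)) := AlgHom.ext fun z =>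
        ((Algebra.TensorProduct.includeRight : L v →ₐ[O v] L v ⊗[O v] L v).commutes z).trans
          ((Algebra.TensorProduct.includeLeft : L v →ₐ[O v] L v ⊗[O v] L v).commutes z).symm
      rw [el, er, eo]
      abel)
  choose dv hdv using hdv
  obtain ⟨δ, hδ⟩ := exists_primitive L b s hπ c dv fun v => by
    apply hinj
    rw [map_add, map_sub, app_map, app_map, app_map, app_map, hdv]
    erw [hc]
    simp only [C, δ₁, map_add, map_sub, map_spOMap_comp, tripleHom_f₁₂, tripleHom_f₂₃, tripleHom_f₁₃]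
    have g1 : ((f₁₃ (O v) (L v)).restrictScalars A).comp
        ((Algebra.TensorProduct.includeLeft : L v →ₐ[O v] L v ⊗[O v] L v).restrictScalars A) =
      ((f₁₂ (O v) (L v)).restrictScalars A).comp
        ((Algebra.TensorProduct.includeLeft : L v →ₐ[O v] L v ⊗[O v] L v).restrictScalars A) := AlgHom.ext fun _ => rfl
    have g2 : ((f₂₃ (O v) (L v)).restrictScalars A).comp
        ((Algebra.TensorProduct.includeLeft : L v →ₐ[O v] L v ⊗[O v] L v).restrictScalars A) =
      ((f₁₂ (O v) (L v)).restrictScalars A).comp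
        ((Algebra.TensorProduct.includeRight : L v →ₐ[O v] L v ⊗[O v] L v).restrictScalars A) := AlgHom.ext fun _ => rfl
    have g3 : ((f₁₃ (O v) (L v)).restrictScalars A).comp
        ((Algebra.TensorProduct.includeRight : L v →ₐ[O v] L v ⊗[O v] L v).restrictScalars A) =
      ((f₂₃ (O v) (L v)).restrictScalars A).comp
        ((Algebra.TensorProduct.includeRight : L v →ₐ[O v] L v ⊗[O v] L v).restrictScalars A) := AlgHom.ext fun _ => rfl
    rw [g1, g2, g3]
    abel
  let j := i - inc.hom.app (op (spO (A := A) (C ⊗[A] C))) δ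
  have hj : δ₁ I j = 0 := by
    rw [δ₁_sub, ← δ₁_app, hδ]
    erw [hc]
    exact sub_self _
  have hprj : prj.hom.app (op (spO (A := A) (C ⊗[A] C))) j = d := by
    rw [map_sub, hzero', sub_zero, hi]
  obtain ⟨u₀, hu₀⟩ := exists_coboundary_of_injective (W := spO (A := A) C) I (singleton_cover (A := A) C)
    (pr₁ A C) (pr₂ A C) (fun Z a b' => pair_lift A C Z a b') j (cocycle_of_δ₁ I j hj)
  let u := prj.hom.app (op (spO (A := A) C)) u₀
  have hu : Qs.obj.map (pr₂ A C).op u - Qs.obj.map (pr₁ A C).op u = d := by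
    rw [← app_map, ← app_map, ← map_sub, hu₀, hprj]
  let τ' := τ - inc'.hom.app (op (spO (A := A) C)) u
  obtain ⟨t₀, ht₀⟩ := exists_descend I' (Over.mkIdTerminal.from (spO (A := A) C)) (singleton_cover (A := A) C) τ'
    fun Z a b' _ => by
      obtain ⟨h, rfl, rfl⟩ := pair_lift A C Z a b'
      rw [← map_map_apply, ← map_map_apply]
      congr 1
      rw [map_sub, map_sub, ← app_map inc' (pr₁ A C) u, ← app_map inc' (pr₂ A C) u, eq_comm]
      have h1 := congrArg (inc'.hom.app (op (spO (A := A) (C ⊗[A] C)))) hu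
      rw [map_sub] at h1
      erw [hd] at h1
      exact sub_eq_sub_iff_sub_eq_sub.2 h1.symm
  refine ⟨t₀, ext_of_cover Qs' (Over.mkIdTerminal.from (spO (A := A) C)) (singleton_cover (A := A) C) ?_⟩
  rw [← app_map, ht₀, map_sub, hzero, sub_zero, hτ]

end Groth.Agent.DualH2
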