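import Groth.Agent.DualH2.Bound

/-!
Sections of the dual torus over an algebra inside a product: separation, and gluing of bounded
families.
-/

set_option autoImplicit false
set_option backward.isDefEq.respectTransparency false
universe u

open CategoryTheory CategoryTheory.Limits AlgebraicGeometry Opposite TensorProduct
open AddMonoidAlgebra
open Groth.Agent.DualTor32

noncomputable section

namespace Groth.Agent.DualH2

variable {A₀ : Type u} [CommRing A₀] {B : Type u} [CommRing B] [Algebra A₀ B]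
variable {Y : Type u} [CommRing Y] [Algebra A₀ Y] {n : ℕ} (s : Spl A₀ B Y n)
variable {V : Type u} {Yv : V → Type u} [∀ v, CommRing (Yv v)] [∀ v, Algebra A₀ (Yv v)] (χ : ∀ v, Y →ₐ[A₀] Yv v)

include s in
theorem sec_sep (hχ : Function.Injective (RingHom.pi fun v => (χ v).toRingHom))
    {φ ψ : (D A₀ B).obj.obj (op (sp (K := A₀) Y))}
    (h : ∀ v, (D A₀ B).obj.map (spMap (χ v)).op φ = (D A₀ B).obj.map (spMap (χ v)).op ψ) : φ = ψ := by
  refine expo_inj s fun i => AddMonoidAlgebra.ext (Finsupp.ext fun r => hχ (funext fun v => ?_))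
  show χ v _ = χ v _
  have h1 := congrArg (fun g => (g : Lau (Yv v)).coeff r)
    ((expo_res s (χ v) φ i).symm.trans ((congrArg (fun x => expo (s.map (χ v)) x i) (h v)).trans (expo_res s (χ v) ψ i)))
  simpa [AddMonoidAlgebra.coeff_mapRingHom] using h1

theorem coeff_eq_zero_of_bound {Z : Type u} [CommRing Z] {g : Lau Z} (hg : IsGL g) {M : ℤ}
    (hM : ∀ y, |deg g y| ≤ M) {r : ℤ} (hr : M < |r|) : g.coeff r = 0 := by
  refine IsIdempotentElem.eq_zero_of_isNilpotent (hg.idem r) (nilpotent_iff_mem_prime.2 fun J hJ => ?_)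
  by_contra hn
  have := (hg.deg_eq_iff ⟨J, hJ⟩ r).2 hn
  have h2 := hM ⟨J, hJ⟩
  rw [this] at h2
  omega

include s in
/-- Bounded families glue. -/
theorem exists_glueBdd (hχ : Function.Bijective (RingHom.pi fun v => (χ v).toRingHom)) (M : ℤ)
    (φv : ∀ v, (D A₀ B).obj.obj (op (sp (K := A₀) (Yv v)))) (hb : ∀ v P, |fn (s.map (χ v)) (φv v) P| ≤ M) :
    ∃ φ, ∀ v, (D A₀ B).obj.map (spMap (χ v)).op φ = φv v := by
  classical
  let G : ∀ v, Fin n → Lau (Yv v) := fun v i => expo (s.map (χ v)) (φv v) i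
  have hG : ∀ v i, IsGL (G v i) := fun v i => isGL_expo _ _ i
  have hdeg : ∀ v i y, |deg (G v i) y| ≤ M := fun v i y => by
    rw [← fn_lift]
    exact hb v _
  let I : Finset ℤ := Finset.Icc (-M) M
  have hI : ∀ r, r ∉ I → M < |r| := fun r hr => by
    by_contra! h
    exact hr (Finset.mem_Icc.2 (abs_le.1 h))
  have h0 : ∀ v i r, r ∉ I → (G v i).coeff r = 0 := fun v i r hr =>
    coeff_eq_zero_of_bound (hG v i) (hdeg v i) (hI r hr)
  choose e he using fun (i : Fin n) (r : ℤ) => hχ.2 fun v => (G v i).coeff r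
  have he' : ∀ i r v, χ v (e i r) = (G v i).coeff r := fun i r v => congrFun (he i r) v
  have he0 : ∀ i r, r ∉ I → e i r = 0 := fun i r hr => hχ.1 (funext fun v => by
    show χ v _ = χ v 0
    rw [he', map_zero, h0 v i r hr])
  let H : Fin n → Lau Y := fun i => AddMonoidAlgebra.ofCoeff
    (Finsupp.onFinset I (e i) fun r hr => by_contra fun h => hr (he0 i r h))
  have hH : ∀ i r, (H i).coeff r = e i r := fun i r => rfl
  have hHG : ∀ i, IsGL (H i) := fun i => by
    refine ⟨fun r r' hrr' => hχ.1 (funext fun v => ?_), hχ.1 (funext fun v => ?_)⟩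
    · show χ v _ = χ v 0
      rw [map_mul, map_zero, hH, hH, he', he']
      exact (hG v i).orth r r' hrr'
    · show χ v _ = χ v 1
      rw [map_one, map_sum, Finset.sum_subset (s₂ := I) (fun r hr => by
          by_contra h
          exact Finsupp.mem_support_iff.1 hr ((hH i r).trans (he0 i r h)))
        (fun r _ hr => by rw [Finsupp.notMem_support_iff.1 hr, map_zero])]
      refine (Finset.sum_congr rfl fun r _ => by rw [hH, he']).trans ?_
      rw [← (hG v i).sum]
      refine (Finset.sum_subset (fun r hr => ?_) fun r _ hr => Finsupp.notMem_support_iff.1 hr).symm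
      by_contra h
      exact Finsupp.mem_support_iff.1 hr (h0 v i r h)
  refine ⟨mkD s H hHG, fun v => expo_inj (s.map (χ v)) fun i => ?_⟩
  rw [expo_res, expo_mkD]
  refine AddMonoidAlgebra.ext (Finsupp.ext fun r => ?_)
  rw [AddMonoidAlgebra.coeff_mapRingHom, hH]
  exact he' i r v

end Groth.Agent.DualH2
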