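import Groth.Agent.DualH2.Core

/-!
A class in the second cohomology of the dual torus over a product of henselian local rings vanishing
on every factor vanishes.
-/

set_option autoImplicit false
set_option backward.isDefEq.respectTransparency false
universe u

open CategoryTheory CategoryTheory.Limits AlgebraicGeometry Opposite TensorProduct CategoryTheory.Abelian
open Groth.Agent.DualTor32 (spO topO spOMap D Spl AJ subJ)
open Groth.Agent.Tors32

noncomputable section

namespace Groth.Agent.DualH2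

variable {A₀ A : Type u} [CommRing A₀] [CommRing A] [Algebra A₀ A] {B : Type u} [CommRing B] [Algebra A₀ B]
variable {V : Type u} {O : V → Type u} [∀ v, CommRing (O v)] [∀ v, Algebra A (O v)] [∀ v, Algebra A₀ (O v)]
  [∀ v, IsScalarTower A₀ A (O v)] [∀ v, HenselianLocalRing (O v)]
variable {I Qs I' Qs' : BigSite.Ab Scheme.fppfPrecoverage (Spec (CommRingCat.of A))} [Injective I]
  {inc : FD A₀ A B ⟶ I} {prj : I ⟶ Qs} {w : inc ≫ prj = 0} {inc' : Qs ⟶ I'} {prj' : I' ⟶ Qs'}
  {w' : inc' ≫ prj' = 0}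

/-- The lift over a member. -/
theorem exists_lift_member (hS : (ShortComplex.mk inc prj w).ShortExact)
    (hS' : (ShortComplex.mk inc' prj' w').ShortExact)
    {T : Type u} [CommRing T] [Algebra A₀ T] [Module.FaithfullyFlat A₀ T] [Module.Finite A₀ T]
    {n₀ : ℕ} (s₀ : Spl A₀ B T n₀) (q : Qs'.obj.obj (op (topO A)))
    (t : ∀ v, I'.obj.obj (op (spO (A := A) (O v)))) (ht : ∀ v, prj'.hom.app (op (spO (A := A) (O v))) (t v) = resTop Qs' _ q)
    (R : Type u) [CommRing R] [Algebra A R] [Algebra A₀ R] [IsScalarTower A₀ A R] {W : Type u} [Nonempty W] (ι : W → V)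
    [∀ v, Algebra R (O (ι v))] [∀ v, IsScalarTower A R (O (ι v))] [∀ v, IsScalarTower A₀ R (O (ι v))]
    (hR : Function.Bijective (RingHom.pi fun v => algebraMap R (O (ι v))))
    (C : Type u) [CommRing C] [Algebra R C] [Algebra A C] [IsScalarTower A R C] [Algebra A₀ C] [IsScalarTower A₀ R C]
    [Module.Free R C] [Module.Finite R C] [Nontrivial C] {n : ℕ} (s : Spl A₀ B C n)
    (τ : I'.obj.obj (op (spO (A := A) C))) (hτ : prj'.hom.app (op (spO (A := A) C)) τ = resTop Qs' _ q) :
    ∃ u₀, prj'.hom.app (op (spO (A := A) R)) u₀ = resTop Qs' _ q := by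
  let P := BigSite.pullBig Scheme.fppfPrecoverage (spHom (A := A) R) AddCommGrpCat.{u + 1}
  let L : W → Type u := fun v => O (ι v) ⊗[R] C
  let e := (Module.Free.chooseBasis R C).reindex (Fintype.equivFin _)
  let b : ∀ v, Module.Basis _ (O (ι v)) (L v) := fun v => e.baseChange (O (ι v))
  have : ∀ v, Nontrivial (L v) := fun v => by
    have : 0 < Fintype.card (Module.Free.ChooseBasisIndex R C) :=
      Fintype.card_pos_iff.2 (Module.Free.chooseBasis R C).index_nonempty
    exact ⟨⟨b v ⟨0, this⟩, 0, (b v).ne_zero _⟩⟩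
  let ψ : C →ₐ[R] ∀ v, L v :=
    Pi.algHom R _ fun v => (Algebra.TensorProduct.includeRight : C →ₐ[R] O (ι v) ⊗[R] C)
  let Sa := (ShortComplex.mk inc prj w).map P
  have w₁ : ((compIso (A := A) (D A₀ B) R).inv ≫ P.map inc) ≫ P.map prj = 0 := by
    rw [Category.assoc, ← P.map_comp, w, P.map_zero, comp_zero]
  have hS₁ : (ShortComplex.mk ((compIso (A := A) (D A₀ B) R).inv ≫ P.map inc) (P.map prj) w₁).ShortExact :=
    ShortComplex.shortExact_of_iso
      (ShortComplex.isoMk (S₁ := Sa) (compIso (A := A) (D A₀ B) R) (Iso.refl _) (Iso.refl _) (by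
        show (compIso (A := A) (D A₀ B) R).hom ≫ (compIso (A := A) (D A₀ B) R).inv ≫ P.map inc = P.map inc ≫ 𝟙 _
        rw [Iso.hom_inv_id_assoc, Category.comp_id]) (by
        show 𝟙 _ ≫ P.map prj = P.map prj ≫ 𝟙 _
        rw [Category.id_comp, Category.comp_id]))
      (shortExact_pull (spHom (A := A) R) hS)
  have w₂ : P.map inc' ≫ P.map prj' = 0 := by rw [← P.map_comp, w', P.map_zero]
  have hS₂ : (ShortComplex.mk (P.map inc') (P.map prj') w₂).ShortExact := shortExact_pull (spHom (A := A) R) hS'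
  have : Injective (P.obj I) := Big45.injective_pullBig _ _ I
  have hres : ∀ {Z Z' : Over (Spec (CommRingCat.of A))} (k : Z' ⟶ Z) (x : I'.obj.obj (op Z)),
      prj'.hom.app (op Z) x = resTop Qs' _ q → prj'.hom.app (op Z') (I'.obj.map k.op x) = resTop Qs' _ q :=
    fun k x hx => by rw [app_map, hx, map_resTop]
  let toR : ∀ (X : Type u) [CommRing X] [Algebra R X] [Algebra A X] [IsScalarTower A R X],
      I'.obj.obj (op (spO (A := A) X)) → (P.obj I').obj.obj (op (spO (A := R) X)) :=
    fun X _ _ _ _ x => I'.obj.map (downO (A := A) R X).inv.op x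
  let qR : (P.obj Qs').obj.obj (op (topO R)) := resTop Qs' ((Over.map (spHom (A := A) R)).obj (topO R)) q
  have hR' : ∀ (X : Over (Spec (CommRingCat.of R))),
      resTop Qs' ((Over.map (spHom (A := A) R)).obj X) q = resTop (P.obj Qs') X qR := fun X =>
    (map_resTop Qs' ((Over.map (spHom (A := A) R)).map (Over.mkIdTerminal.from X)) q).symm
  obtain ⟨u₀, hu₀⟩ := exists_lift_core (A := R) (O := fun v => O (ι v)) L b (s.map (ψ.restrictScalars A₀))
    hS₁ hS₂ s₀ hR qR (fun v => toR (O (ι v)) (t (ι v)))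
    (fun v => (hres _ _ (ht (ι v))).trans (hR' _))
    (toR _ (I'.obj.map (spOMap C (ψ.restrictScalars A)).op τ))
    ((hres _ _ (hres _ _ hτ)).trans (hR' _))
  refine ⟨I'.obj.map (topSpIso (A := A) R).hom.op u₀, hres _ _ ?_⟩
  refine Eq.trans hu₀ ?_
  rfl

/-- A section which lifts on every factor lifts. -/
theorem exists_lift_dual (hS : (ShortComplex.mk inc prj w).ShortExact)
    (hS' : (ShortComplex.mk inc' prj' w').ShortExact)
    {T : Type u} [CommRing T] [Algebra A₀ T] [Module.FaithfullyFlat A₀ T] [Module.Finite A₀ T]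
    {n₀ : ℕ} (s₀ : Spl A₀ B T n₀) (hπ : Function.Bijective (RingHom.pi fun v => algebraMap A (O v)))
    (q : Qs'.obj.obj (op (topO A))) (t : ∀ v, I'.obj.obj (op (spO (A := A) (O v))))
    (ht : ∀ v, prj'.hom.app (op (spO (A := A) (O v))) (t v) = resTop Qs' _ q) :
    ∃ t₀, prj'.hom.app (op (topO A)) t₀ = q := by
  classical
  have : Epi prj' := hS'.epi_g
  have : Sheaf.IsLocallySurjective prj' := (Sheaf.isLocallySurjective_iff_epi' AddCommGrpCat.{u + 1} prj').2 inferInstance
  obtain ⟨ι, _, c, C, instC, algA, algJ, alg₀, tow, hC⟩ :=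
    DualTor32.exists_family _ (DualTor32.eval_surjective hπ) s₀ _ (Presheaf.imageSieve_mem _ prj'.hom q)
  choose hfree hfinC hnt hfac hspl hmem using hC
  have hntJ : ∀ j, Nontrivial (AJ O c j) := fun j => by
    have := hnt j
    exact RingHom.domain_nontrivial (algebraMap (AJ O c j) (C j))
  have himm : ∀ j, IsOpenImmersion (Spec.map (CommRingCat.ofHom (algebraMap A (AJ O c j)))) := fun j =>
    DualTor32.isOpenImmersion_subJ hπ c j
  have hlift : ∀ j, ∃ u₀, prj'.hom.app (op (spO (A := A) (AJ O c j))) u₀ = resTop Qs' _ q := by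
    intro j
    obtain ⟨τ, hτ⟩ := hmem j
    obtain ⟨sj⟩ := hspl j
    have := hfree j
    have := hfinC j
    have := hnt j
    have : Nonempty {v // c v = j} := by
      by_contra h
      rw [not_nonempty_iff] at h
      exact false_of_nontrivial_of_subsingleton (AJ O c j)
    have hCA : IsScalarTower A (AJ O c j) (C j) := .of_algebraMap_eq fun a => DFunLike.congr_fun (hfac j) a
    have : IsScalarTower A₀ A (AJ O c j) := .of_algebraMap_eq fun a =>
      funext fun v => IsScalarTower.algebraMap_apply A₀ A (O v.1) a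
    have : IsScalarTower A₀ (AJ O c j) (C j) := .of_algebraMap_eq fun a => by
      rw [IsScalarTower.algebraMap_apply A₀ A (C j), IsScalarTower.algebraMap_apply A (AJ O c j) (C j),
        IsScalarTower.algebraMap_apply A₀ A (AJ O c j)]
    let algOv : ∀ v : {v // c v = j}, Algebra (AJ O c j) (O v.1) := fun v =>
      (Pi.evalRingHom (fun v : {v // c v = j} => O v.1) v).toAlgebra
    have : ∀ v : {v // c v = j}, IsScalarTower A (AJ O c j) (O v.1) := fun v =>
      ⟨fun a b z => smul_mul_assoc a (b v) z⟩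
    have : ∀ v : {v // c v = j}, IsScalarTower A₀ (AJ O c j) (O v.1) := fun v =>
      ⟨fun a b z => smul_mul_assoc a (b v) z⟩
    exact exists_lift_member (O := O) hS hS' s₀ q t ht (AJ O c j) (W := {v // c v = j}) (fun v => v.1)
      Function.bijective_id (C j) sj τ hτ
  choose x hx using hlift
  have hfac' : ∀ j, algebraMap A (AJ O c j) =
      (algebraMap (AJ O c j) (AJ O c j)).comp (subJ (fun v => algebraMap A (O v)) c j) := fun j => rfl
  have hcov := DualTor32.family_mem hπ c (fun j => AJ O c j) (fun j => inferInstance) (fun j => inferInstance) hntJ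
    hfac' Over.mkIdTerminal
  have hcomp : Presieve.Arrows.Compatible (I'.obj ⋙ forget AddCommGrpCat.{u + 1})
      (fun j => Over.mkIdTerminal.from (spO (A := A) (AJ O c j))) x := by
    intro i j Z a b _
    show I'.obj.map a.op (x i) = I'.obj.map b.op (x j)
    by_cases hij : i = j
    · subst hij
      have := himm i
      have hab : a = b := Over.OverMorphism.ext
        ((cancel_mono (Spec.map (CommRingCat.ofHom (algebraMap A (AJ O c i))))).1 ((Over.w a).trans (Over.w b).symm))
      rw [hab]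
    · exact EtTr32.sect_ext I' (DualTor32.bot_mem_over Z (isEmpty_pair hπ c (fun j => AJ O c j) hfac' hij a b))
        fun V h hh => absurd hh (by simp)
  have hsh := ((isSheaf_iff_isSheaf_of_type _ _).1 (EtTr32.isSheaf_types I')) _ hcov
  rw [Sieve.ofArrows, ← Presieve.isSheafFor_iff_generate] at hsh
  obtain ⟨t₀, ht₀, -⟩ := (Presieve.isSheafFor_arrows_iff _ _).1 hsh x hcomp
  refine ⟨t₀, EtTr32.sect_ext Qs' hcov fun V f hf => ?_⟩
  obtain ⟨j, k, rfl⟩ := (Sieve.mem_ofArrows_iff _ _ _).1 hf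
  rw [← map_map_apply, ← map_map_apply, ← app_map, show I'.obj.map (Over.mkIdTerminal.from _).op t₀ = x j from ht₀ j,
    hx j]

omit [Injective I] in
/-- Classes of degree two vanishing on every factor vanish. -/
theorem pull_two_injective {T : Type u} [CommRing T] [Algebra A₀ T] [Module.FaithfullyFlat A₀ T] [Module.Finite A₀ T]
    {n₀ : ℕ} (s₀ : Spl A₀ B T n₀) (hπ : Function.Bijective (RingHom.pi fun v => algebraMap A (O v)))
    (x : BigSite.H Scheme.fppfPrecoverage (Spec (CommRingCat.of A)) (FD A₀ A B) 2)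
    (hx : ∀ v, HRes.pull Scheme.fppfPrecoverage (spHom (A := A) (O v)) (FD A₀ A B) 2 x = 0) : x = 0 := by
  obtain ⟨J, Q₁, inc₁, prj₁, w₁, hJ, hS₁⟩ := exists_injective_ses (FD A₀ A B)
  obtain ⟨y, rfl⟩ := Ext.covariant_sequence_exact₁ _ hS₁ x (Ext.eq_zero_of_injective _) rfl
  obtain ⟨J', Q₂, inc₂, prj₂, w₂, hJ', hS₂⟩ := exists_injective_ses Q₁
  obtain ⟨q, rfl⟩ := delta_surjective (S := ShortComplex.mk inc₂ prj₂ w₂) hS₂ y
  have hy : ∀ v, HRes.pull Scheme.fppfPrecoverage (spHom (A := A) (O v)) Q₁ 1 (delta hS₂ q) = 0 := fun v => by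
    have h0 : (HRes.pull Scheme.fppfPrecoverage (spHom (A := A) (O v)) Q₁ 1 (delta hS₂ q)).comp
        (shortExact_pull (spHom (A := A) (O v)) hS₁).extClass rfl = 0 := by
      refine Eq.trans ?_ (hx v)
      rw [HRes.pull_apply, HRes.pull_apply, Ext.mapExactFunctor_comp, Ext.mapExactFunctor_extClass]
      exact Ext.comp_assoc _ _ _ (zero_add 1) rfl (by omega)
    have : Injective ((ShortComplex.mk inc₁ prj₁ w₁).map
        (BigSite.pullBig Scheme.fppfPrecoverage (spHom (A := A) (O v)) AddCommGrpCat.{u + 1})).X₂ :=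
      Big45.injective_pullBig _ _ J
    obtain ⟨z, hz⟩ := Ext.covariant_sequence_exact₃ _ (shortExact_pull (spHom (A := A) (O v)) hS₁) _ rfl h0
    rw [← hz, Ext.eq_zero_of_injective z, Ext.zero_comp]
  have hlift : ∀ v, ∃ t : J'.obj.obj (op (spO (A := A) (O v))),
      prj₂.hom.app (op (spO (A := A) (O v))) t = resTop Q₂ _ q := fun v => by
    obtain ⟨t, ht⟩ := (delta_eq_zero_iff _ _).1 ((pull_delta (spHom (A := A) (O v)) hS₂ q).symm.trans (hy v))
    refine ⟨J'.obj.map (topSpIso (A := A) (O v)).hom.op t, ?_⟩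
    rw [app_map, ← map_resTop Q₂ (topSpIso (A := A) (O v)).hom q]
    exact congrArg (fun z => Q₂.obj.map (topSpIso (A := A) (O v)).hom.op z) ht
  choose t ht using hlift
  rw [(delta_eq_zero_iff hS₂ q).2 (exists_lift_dual hS₁ hS₂ s₀ hπ q t ht), Ext.zero_comp]

end Groth.Agent.DualH2
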