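import Groth.Agent.DualH2.Vanish
import Groth.Agent.DualH2.GlueSec

/-!
Sections of the restricted dual torus as sections of the dual torus on spectra over the base.
-/

set_option autoImplicit false
set_option backward.isDefEq.respectTransparency false
universe u

open CategoryTheory CategoryTheory.Limits AlgebraicGeometry Opposite TensorProduct
open Groth.Agent.DualTor32 (spO topO spOMap D sp spMap downIso map_spOMap Spl)
open Groth.Agent.Tors32

noncomputable section

namespace Groth.Agent.DualH2

variable {A₀ A : Type u} [CommRing A₀] [CommRing A] [Algebra A₀ A] {B : Type u} [CommRing B] [Algebra A₀ B]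

/-- A section seen over the base. -/
def secD {Y : Type u} [CommRing Y] [Algebra A Y] [Algebra A₀ Y] [IsScalarTower A₀ A Y] :
    (FD A₀ A B).obj.obj (op (spO (A := A) Y)) →+ (D A₀ B).obj.obj (op (sp (K := A₀) Y)) :=
  ((D A₀ B).obj.map (downIso (A := A) (A₀ := A₀) Y).hom.op).hom

theorem secD_bijective {Y : Type u} [CommRing Y] [Algebra A Y] [Algebra A₀ Y] [IsScalarTower A₀ A Y] :
    Function.Bijective (secD (A₀ := A₀) (A := A) (B := B) (Y := Y)) :=
  ConcreteCategory.bijective_of_isIso ((D A₀ B).obj.map (downIso (A := A) (A₀ := A₀) Y).hom.op)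

theorem secD_map {Y Y' : Type u} [CommRing Y] [Algebra A Y] [Algebra A₀ Y] [IsScalarTower A₀ A Y] [CommRing Y']
    [Algebra A Y'] [Algebra A₀ Y'] [IsScalarTower A₀ A Y'] (ψ : Y →ₐ[A] Y')
    (x : (FD A₀ A B).obj.obj (op (spO (A := A) Y))) :
    secD ((FD A₀ A B).obj.map (spOMap Y ψ).op x) =
      (D A₀ B).obj.map (spMap (ψ.restrictScalars A₀)).op (secD x) :=
  map_spOMap (F := D A₀ B) Y ψ x

end Groth.Agent.DualH2
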