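import Groth.Agent.Tors32.Main
import Groth.Agent.DualTor32.Main
import Groth.Agent.FinHopf34.Conn
import Groth.Agent.Hensel20.LocalFinite

/-!
Sections of a quotient of an injective sheaf by the dual torus lift over algebras which are products
of henselian local rings.
-/

set_option autoImplicit false
set_option backward.isDefEq.respectTransparency false
universe u

open CategoryTheory CategoryTheory.Limits AlgebraicGeometry Opposite TensorProduct CategoryTheory.Abelian
open Groth.Agent.DualTor32 (spO topO spOMap D Spl)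
open Groth.Agent.Tors32

noncomputable section

namespace Groth.Agent.DualH2

variable {A₀ A : Type u} [CommRing A₀] [CommRing A] [Algebra A₀ A]

variable (A₀ A) in
/-- The restricted dual torus. -/
abbrev FD (B : Type u) [CommRing B] [Algebra A₀ B] :
    BigSite.Ab Scheme.fppfPrecoverage (Spec (CommRingCat.of A)) :=
  (BigSite.pullBig Scheme.fppfPrecoverage (Spec.map (CommRingCat.ofHom (algebraMap A₀ A))) AddCommGrpCat.{u + 1}).obj
    (D A₀ B)

/-- Restriction in two steps. -/
def compIso (F : BigSite.Ab Scheme.fppfPrecoverage (Spec (CommRingCat.of A₀))) (Y : Type u) [CommRing Y] [Algebra A Y]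
    [Algebra A₀ Y] [IsScalarTower A₀ A Y] :
    (BigSite.pullBig Scheme.fppfPrecoverage (spHom (A := A) Y) AddCommGrpCat.{u + 1}).obj
        ((BigSite.pullBig Scheme.fppfPrecoverage (spHom (A := A₀) A) AddCommGrpCat.{u + 1}).obj F) ≅
      (BigSite.pullBig Scheme.fppfPrecoverage (spHom (A := A₀) Y) AddCommGrpCat.{u + 1}).obj F :=
  (Scheme.fppfPrecoverage.toGrothendieck.overMapPullbackComp AddCommGrpCat.{u + 1} (spHom (A := A) Y)
      (spHom (A := A₀) A)).app F ≪≫
    (Scheme.fppfPrecoverage.toGrothendieck.overMapPullbackCongr AddCommGrpCat.{u + 1} (by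
      rw [spHom, spHom, spHom, ← Spec.map_comp, ← CommRingCat.ofHom_comp, IsScalarTower.algebraMap_eq A₀ A Y])).app F

theorem subsingleton_H_of_iso {T : Scheme.{u}} {F F' : BigSite.Ab Scheme.fppfPrecoverage T} (e : F ≅ F') (n : ℕ)
    [Subsingleton (BigSite.H Scheme.fppfPrecoverage T F' n)] :
    Subsingleton (BigSite.H Scheme.fppfPrecoverage T F n) := by
  refine Function.Injective.subsingleton (f := Sheaf.H.map e.hom n)
    (Function.LeftInverse.injective (g := Sheaf.H.map e.inv n) fun x => ?_)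
  simp [Sheaf.H.map_apply]

variable {B : Type u} [CommRing B] [Algebra A₀ B]

/-- A finite family of finite algebras over henselian local rings gives a product of henselian local rings. -/
theorem exists_henselian_family {Y : Type u} [CommRing Y] {V : Type u} {O Yv : V → Type u} [∀ v, CommRing (O v)]
    [∀ v, HenselianLocalRing (O v)] [∀ v, CommRing (Yv v)] [∀ v, Algebra (O v) (Yv v)]
    [∀ v, Module.Finite (O v) (Yv v)] (χ : ∀ v, Y →+* Yv v) (hχ : Function.Bijective (RingHom.pi χ)) :
    ∃ (W : Type u) (O' : W → Type u) (_ : ∀ w, CommRing (O' w)) (_ : ∀ w, HenselianLocalRing (O' w))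
      (π' : ∀ w, Y →+* O' w), Function.Bijective (RingHom.pi π') := by
  have h : ∀ v, ∃ (k : Type u) (e : k → Yv v), (∀ i, IsLocalRing (Yv v ⧸ Ideal.span {1 - e i})) ∧
      Nonempty (Yv v ≃ₐ[O v] (∀ i, Yv v ⧸ Ideal.span {1 - e i})) := fun v => by
    obtain ⟨k, hk, e, h1, h2⟩ := Hensel20.exists_algEquiv_pi_local (R := O v) (Yv v)
    exact ⟨k, e, h1, h2⟩
  choose ι e hloc hΦ using h
  let Φ := fun v => (hΦ v).some
  let O' : (Σ v, ι v) → Type u := fun w => Yv w.1 ⧸ Ideal.span {1 - e w.1 w.2}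
  let π' : ∀ w, Y →+* O' w := fun w =>
    ((Pi.evalRingHom _ w.2).comp (Φ w.1).toRingEquiv.toRingHom).comp (χ w.1)
  have hh : ∀ w, HenselianLocalRing (O' w) := fun w => by
    have : IsLocalRing (O' w) := hloc w.1 w.2
    exact FinHopf34.henselianLocalRing_of_finite (R := O w.1)
  refine ⟨Σ v, ι v, O', inferInstance, hh, π', fun a b h => hχ.1 (funext fun v => (Φ v).injective (funext fun k => ?_)),
    fun z => ?_⟩
  · exact congrFun h ⟨v, k⟩
  · obtain ⟨y, hy⟩ := hχ.2 fun v => (Φ v).symm fun k => z ⟨v, k⟩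
    refine ⟨y, funext fun w => ?_⟩
    show Φ w.1 (χ w.1 y) w.2 = z w
    rw [show χ w.1 y = _ from congrFun hy w.1, AlgEquiv.apply_symm_apply]

/-- Lifting over a finite algebra which is a product of henselian local rings. -/
theorem exists_lift_finite {T : Type u} [CommRing T] [Algebra A₀ T] [Module.FaithfullyFlat A₀ T] [Module.Finite A₀ T]
    {n : ℕ} (s₀ : Spl A₀ B T n) {I Qs : BigSite.Ab Scheme.fppfPrecoverage (Spec (CommRingCat.of A))}
    {inc : FD A₀ A B ⟶ I} {prj : I ⟶ Qs} {w : inc ≫ prj = 0} (hS : (ShortComplex.mk inc prj w).ShortExact)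
    (Y : Type u) [CommRing Y] [Algebra A Y] [Algebra A₀ Y] [IsScalarTower A₀ A Y] {V : Type u} {O Yv : V → Type u}
    [∀ v, CommRing (O v)] [∀ v, HenselianLocalRing (O v)] [∀ v, CommRing (Yv v)] [∀ v, Algebra (O v) (Yv v)]
    [∀ v, Module.Finite (O v) (Yv v)] (χ : ∀ v, Y →+* Yv v) (hχ : Function.Bijective (RingHom.pi χ))
    (d : Qs.obj.obj (op (spO (A := A) Y))) :
    ∃ i, prj.hom.app (op (spO (A := A) Y)) i = d := by
  obtain ⟨W, O', _, _, π', hπ'⟩ := exists_henselian_family (O := O) χ hχ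
  have : Subsingleton (BigSite.H Scheme.fppfPrecoverage (Spec (CommRingCat.of Y))
      ((BigSite.pullBig Scheme.fppfPrecoverage (spHom (A := A₀) Y) AddCommGrpCat.{u + 1}).obj (D A₀ B)) 1) :=
    DualTor32.subsingleton_HU (π := π') hπ' s₀
  have hz := subsingleton_H_of_iso (compIso (A := A) (D A₀ B) Y) 1
  obtain ⟨t, ht⟩ := (delta_eq_zero_iff (shortExact_pull (spHom (A := A) Y) hS)
    (Qs.obj.map (topSpIso (A := A) Y).inv.op d)).1 (hz.elim _ _)
  refine ⟨I.obj.map (topSpIso (A := A) Y).hom.op t, ?_⟩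
  rw [app_map]
  refine (congrArg (fun z => Qs.obj.map (topSpIso (A := A) Y).hom.op z) ht).trans ?_
  show Qs.obj.map (topSpIso (A := A) Y).hom.op (Qs.obj.map (topSpIso (A := A) Y).inv.op d) = d
  rw [map_map_apply, Iso.hom_inv_id, op_id, Qs.obj.map_id]
  rfl

end Groth.Agent.DualH2
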